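import Cfsg.Agent.Lib.AltPairs.Transfer
import Mathlib.Data.ZMod.Basic

/-!
Permutations of `ZMod q` made of backward rotations of consecutive intervals, and the
decomposition of an arbitrary permutation into rotations.
-/

set_option autoImplicit false

namespace Cfsg.Agent.AltPairs

open Equiv

/-- Backward rotation. -/
def prev (n : ℕ) : Perm (Fin n) where
  toFun j := ⟨(j.1 + n - 1) % n, Nat.mod_lt _ (j.1.zero_le.trans_lt j.2)⟩
  invFun j := ⟨(j.1 + 1) % n, Nat.mod_lt _ (j.1.zero_le.trans_lt j.2)⟩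
  left_inv j := Fin.ext (by
    simp only
    rcases Nat.eq_zero_or_pos j.1 with h | h
    · rw [h, zero_add, Nat.mod_eq_of_lt (show n - 1 < n by have := j.2; omega),
        show n - 1 + 1 = n by have := j.2; omega, Nat.mod_self]
    · rw [show j.1 + n - 1 = j.1 - 1 + n by omega, Nat.add_mod_right,
        Nat.mod_eq_of_lt (show j.1 - 1 < n by have := j.2; omega),
        show j.1 - 1 + 1 = j.1 by omega, Nat.mod_eq_of_lt j.2])
  right_inv j := Fin.ext (by
    simp only
    rcases Nat.lt_or_ge (j.1 + 1) n with h | h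
    · rw [Nat.mod_eq_of_lt h, show j.1 + 1 + n - 1 = j.1 + n by omega, Nat.add_mod_right,
        Nat.mod_eq_of_lt j.2]
    · rw [show j.1 + 1 = n by have := j.2; omega, Nat.mod_self, zero_add,
        Nat.mod_eq_of_lt (show n - 1 < n by have := j.2; omega)]
      have := j.2; omega)

theorem prev_succ {n j : ℕ} (h : j + 1 < n) : prev n ⟨j + 1, h⟩ = ⟨j, by omega⟩ :=
  Fin.ext (show (j + 1 + n - 1) % n = j by
    rw [show j + 1 + n - 1 = j + n by omega, Nat.add_mod_right, Nat.mod_eq_of_lt (by omega)])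

theorem prev_zero {n : ℕ} (h : 0 < n) : prev n ⟨0, h⟩ = ⟨n - 1, by omega⟩ :=
  Fin.ext (show (0 + n - 1) % n = n - 1 by rw [zero_add, Nat.mod_eq_of_lt (by omega)])

/-- Interval lengths adding up to the modulus. -/
structure Lay (q : ℕ) where
  /-- number of intervals -/
  K : ℕ
  /-- their lengths -/
  r : ℕ → ℕ
  pos : ∀ i < K, 0 < r i
  sum : ∑ i ∈ Finset.range K, r i = q

namespace Lay

variable {q : ℕ} (L : Lay q)

/-- Start of interval `i`. -/
def s (i : ℕ) : ℕ := ∑ j ∈ Finset.range i, L.r j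

theorem s_succ (i : ℕ) : L.s (i + 1) = L.s i + L.r i := Finset.sum_range_succ _ _

theorem s_K : L.s L.K = q := L.sum

theorem s_mono {i i' : ℕ} (h : i ≤ i') : L.s i ≤ L.s i' :=
  Finset.sum_le_sum_of_subset (Finset.range_subset_range.2 h)

theorem s_add_lt {i j : ℕ} (hi : i < L.K) (hj : j < L.r i) : L.s i + j < q := by
  have := L.s_mono (Nat.succ_le_of_lt hi)
  rw [s_succ, s_K] at this
  omega

variable [NeZero q]

/-- Position of a point of an interval. -/
def pt (x : Σ i : Fin L.K, Fin (L.r i)) : ZMod q := ((L.s x.1 + x.2.1 : ℕ) : ZMod q)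

theorem pt_bijective : Function.Bijective L.pt := by
  have hinj : Function.Injective L.pt := by
    rintro ⟨i, j⟩ ⟨i', j'⟩ h
    have h' := congrArg ZMod.val h
    rw [pt, pt, ZMod.val_cast_of_lt (L.s_add_lt i.2 j.2), ZMod.val_cast_of_lt (L.s_add_lt i'.2 j'.2)] at h'
    rcases lt_trichotomy i.1 i'.1 with hi | hi | hi
    · have := L.s_mono (Nat.succ_le_of_lt hi); rw [s_succ] at this; have := j.2; omega
    · obtain rfl := Fin.ext hi
      obtain rfl : j = j' := Fin.ext (by omega)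
      rfl
    · have := L.s_mono (Nat.succ_le_of_lt hi); rw [s_succ] at this; have := j'.2; omega
  refine (Fintype.bijective_iff_injective_and_card _).2 ⟨hinj, ?_⟩
  rw [Fintype.card_sigma, ZMod.card]
  simp only [Fintype.card_fin]
  rw [Fin.sum_univ_eq_sum_range, L.sum]

/-- Points as positions. -/
noncomputable def ptEquiv : (Σ i : Fin L.K, Fin (L.r i)) ≃ ZMod q := Equiv.ofBijective _ L.pt_bijective

/-- All intervals rotated backwards. -/
noncomputable def back : Perm (ZMod q) :=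
  L.ptEquiv.permCongr (Perm.sigmaCongrRight fun i => prev (L.r i.1))

theorem back_pt (i : Fin L.K) (j : Fin (L.r i)) : L.back (L.pt ⟨i, j⟩) = L.pt ⟨i, prev _ j⟩ := by
  simp [back, ptEquiv, Equiv.permCongr_apply]

theorem back_succ {i j : ℕ} (hi : i < L.K) (hj : j + 1 < L.r i) :
    L.back ((L.s i + j + 1 : ℕ) : ZMod q) = ((L.s i + j : ℕ) : ZMod q) := by
  have := L.back_pt ⟨i, hi⟩ ⟨j + 1, hj⟩
  rw [prev_succ hj] at this
  exact this

theorem back_zero {i : ℕ} (hi : i < L.K) :
    L.back ((L.s i : ℕ) : ZMod q) = ((L.s i + (L.r i - 1) : ℕ) : ZMod q) := by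
  have := L.back_pt ⟨i, hi⟩ ⟨0, L.pos i hi⟩
  rw [prev_zero (L.pos i hi)] at this
  exact this

theorem back_one {i : ℕ} (hi : i < L.K) (h1 : L.r i = 1) :
    L.back ((L.s i : ℕ) : ZMod q) = ((L.s i : ℕ) : ZMod q) := by
  have := L.back_zero hi
  rwa [h1, Nat.sub_self, add_zero] at this

/-- The successor. -/
def c (q : ℕ) : Perm (ZMod q) := Equiv.addRight (1 : ZMod q)

omit [NeZero q] in
theorem c_cast (x : ℕ) : c q (x : ZMod q) = ((x + 1 : ℕ) : ZMod q) := by simp [c]

omit [NeZero q] in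
theorem c_pow_apply (m : ℕ) (x : ZMod q) : (c q ^ m) x = x + (m : ZMod q) := by
  induction m with
  | zero => simp
  | succ m ih => rw [pow_succ', Perm.mul_apply, ih, c, Equiv.coe_addRight]; push_cast; ring

/-- The skeleton permutation `c * back`. -/
noncomputable def skel : Perm (ZMod q) := c q * L.back

theorem skel_inner {i j : ℕ} (hi : i < L.K) (hj : j + 1 < L.r i) :
    L.skel ((L.s i + j + 1 : ℕ) : ZMod q) = ((L.s i + j + 1 : ℕ) : ZMod q) := by
  rw [skel, Perm.mul_apply, L.back_succ hi hj, c_cast]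

theorem skel_start {i : ℕ} (hi : i < L.K) :
    L.skel ((L.s i : ℕ) : ZMod q) = ((L.s (i + 1) : ℕ) : ZMod q) := by
  rw [skel, Perm.mul_apply, L.back_zero hi, c_cast]
  congr 1
  have := L.pos i hi
  rw [s_succ]; omega

theorem start_mod {i : ℕ} (hi : i ≤ L.K) : ((L.s i : ℕ) : ZMod q) = ((L.s (i % L.K) : ℕ) : ZMod q) := by
  rcases hi.lt_or_eq with h | h
  · rw [Nat.mod_eq_of_lt h]
  · rw [h, Nat.mod_self, s_K, ZMod.natCast_self]; simp [s]

theorem skel_pow_start (hK : 0 < L.K) (m i : ℕ) :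
    (L.skel ^ m) ((L.s (i % L.K) : ℕ) : ZMod q) = ((L.s ((i + m) % L.K) : ℕ) : ZMod q) := by
  induction m with
  | zero => simp
  | succ m ih =>
    rw [pow_succ', Perm.mul_apply, ih, L.skel_start (Nat.mod_lt _ hK),
      L.start_mod (Nat.succ_le_of_lt (Nat.mod_lt _ hK)), Nat.succ_eq_add_one, Nat.mod_add_mod, add_assoc]

theorem skel_pow_K : L.skel ^ L.K = 1 := by
  ext x
  obtain ⟨⟨⟨i, hi⟩, ⟨j, hj⟩⟩, rfl⟩ := L.pt_bijective.2 x
  rcases j with _ | j
  · show (L.skel ^ L.K) ((L.s i : ℕ) : ZMod q) = ((L.s i : ℕ) : ZMod q)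
    have := L.skel_pow_start (i.zero_le.trans_lt hi) L.K i
    rwa [Nat.add_mod_right, Nat.mod_eq_of_lt hi] at this
  · show (L.skel ^ L.K) ((L.s i + (j + 1) : ℕ) : ZMod q) = ((L.s i + (j + 1) : ℕ) : ZMod q)
    rw [← add_assoc]
    exact Perm.pow_apply_eq_self_of_apply_eq_self (L.skel_inner hi hj) _

end Lay

variable {α : Type*} [Fintype α] [DecidableEq α]

/-- `w` is made of backward rotations. -/
structure Dec (w : Perm α) where
  /-- number of cycles -/
  K : ℕ
  /-- their lengths -/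
  r : Fin K → ℕ
  /-- the points -/
  e : (Σ i : Fin K, Fin (r i)) ≃ α
  pos : ∀ i, 0 < r i
  apply_e : ∀ i j, w (e ⟨i, j⟩) = e ⟨i, prev (r i) j⟩
  dvd : ∀ i, r i ∣ orderOf w

theorem exists_dec (w : Perm α) : Nonempty (Dec w) := by
  classical
  set g := w⁻¹ with hg
  let S : Setoid α := Perm.SameCycle.setoid g
  let Q := Quotient S
  obtain ⟨eq⟩ : Nonempty (Fin (Fintype.card Q) ≃ Q) := ⟨(Fintype.equivFin Q).symm⟩
  let x : Fin (Fintype.card Q) → α := fun i => Quotient.out (eq i)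
  let r : Fin (Fintype.card Q) → ℕ := fun i => Function.minimalPeriod g (x i)
  have hper : ∀ i, (g ^ orderOf g) (x i) = x i := fun i => by rw [pow_orderOf_eq_one]; rfl
  have hpos : ∀ i, 0 < r i := fun i =>
    Function.IsPeriodicPt.minimalPeriod_pos (orderOf_pos g) (by
      show g^[orderOf g] (x i) = x i
      rw [← Perm.coe_pow]; exact hper i)
  have hrep : ∀ i m, (g ^ m) (x i) = (g ^ (m % r i)) (x i) := fun i m => by
    rw [Perm.coe_pow, Perm.coe_pow]
    exact (Function.iterate_mod_minimalPeriod_eq).symm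
  let f : (Σ i, Fin (r i)) → α := fun y => (g ^ y.2.1) (x y.1)
  have hf : Function.Bijective f := by
    constructor
    · rintro ⟨i, j⟩ ⟨i', j'⟩ h
      have hs : Perm.SameCycle g (x i) (x i') := by
        have h1 : Perm.SameCycle g (x i) ((g ^ j.1) (x i)) := ⟨j.1, by simp⟩
        have h2 : Perm.SameCycle g (x i') ((g ^ j'.1) (x i')) := ⟨j'.1, by simp⟩
        exact h1.trans ((show (g ^ j.1) (x i) = (g ^ j'.1) (x i') from h) ▸ h2.symm)
      obtain rfl : i = i' := eq.injective (Quotient.out_equiv_out.1 hs)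
      have h' : g^[j.1] (x i) = g^[j'.1] (x i) := by rw [← Perm.coe_pow, ← Perm.coe_pow]; exact h
      obtain rfl : j = j' := Fin.ext
        ((Function.iterate_eq_iterate_iff_of_lt_minimalPeriod j.2 j'.2).1 h')
      rfl
    · intro y
      obtain ⟨i, hi⟩ := eq.surjective ⟦y⟧
      have hs : Perm.SameCycle g (x i) y := Quotient.exact ((Quotient.out_eq (eq i)).trans hi)
      obtain ⟨m, hm⟩ := hs.exists_nat_pow_eq
      exact ⟨⟨i, ⟨m % r i, Nat.mod_lt _ (hpos i)⟩⟩, (hrep i m).symm.trans hm⟩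
  refine ⟨⟨Fintype.card Q, r, Equiv.ofBijective f hf, hpos, fun i j => ?_, fun i => ?_⟩⟩
  · show w ((g ^ j.1) (x i)) = (g ^ ((j.1 + r i - 1) % r i)) (x i)
    rw [← hrep, show w = g⁻¹ by rw [hg, inv_inv], Perm.inv_eq_iff_eq, ← Perm.mul_apply, ← pow_succ',
      hrep i j.1, hrep i (j.1 + r i - 1 + 1)]
    congr 2
    rw [show j.1 + r i - 1 + 1 = j.1 + r i by have := hpos i; omega, Nat.add_mod_right]
  · rw [← orderOf_inv]
    refine Function.IsPeriodicPt.minimalPeriod_dvd ?_
    show g^[orderOf g] (x i) = x i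
    rw [← Perm.coe_pow]; exact hper i

namespace Dec

variable {w : Perm α} (D : Dec w)

theorem sum_r : ∑ i, D.r i = Fintype.card α := by
  rw [← Fintype.card_congr D.e, Fintype.card_sigma]; simp

theorem exists_ne_one (hw : w ≠ 1) : ∃ i, 1 < D.r i := by
  by_contra h
  simp only [not_exists, not_lt] at h
  apply hw
  ext a
  obtain ⟨⟨i, j⟩, rfl⟩ := D.e.surjective a
  rw [D.apply_e]
  have : Subsingleton (Fin (D.r i)) := Fin.subsingleton_iff_le_one.2 (h i)
  rw [Subsingleton.elim (prev (D.r i) j) j]; rfl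

theorem exists_emb {q : ℕ} [NeZero q] (L : Lay q) (f : Fin L.K ↪ Fin D.K)
    (h : ∀ i, D.r (f i) = L.r i.1) :
    ∃ ι : ZMod q ↪ α, Along ι w L.back := by
  refine ⟨⟨fun x => D.e ⟨f (L.ptEquiv.symm x).1, Fin.cast (h _).symm (L.ptEquiv.symm x).2⟩, ?_⟩, ?_⟩
  · intro x y hxy
    have h' := D.e.injective hxy
    apply L.ptEquiv.symm.injective
    generalize L.ptEquiv.symm x = X at h'
    generalize L.ptEquiv.symm y = Y at h'
    obtain ⟨i, j⟩ := X
    obtain ⟨i', j'⟩ := Y
    obtain rfl : i = i' := f.injective (congrArg Sigma.fst h')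
    simp only [Sigma.mk.injEq, heq_eq_eq, true_and, Fin.ext_iff, Fin.val_cast] at h'
    obtain rfl : j = j' := Fin.ext h'
    rfl
  · intro x
    obtain ⟨⟨i, j⟩, rfl⟩ := L.ptEquiv.surjective x
    have hb : L.back (L.ptEquiv ⟨i, j⟩) = L.ptEquiv ⟨i, prev _ j⟩ := L.back_pt i j
    show w (D.e ⟨f (L.ptEquiv.symm (L.ptEquiv ⟨i, j⟩)).1, _⟩) =
      D.e ⟨f (L.ptEquiv.symm (L.back (L.ptEquiv ⟨i, j⟩))).1, _⟩
    rw [hb]
    have key : ∀ X : (Σ i : Fin L.K, Fin (L.r i)), X = ⟨i, j⟩ →
        ∀ Y : (Σ i : Fin L.K, Fin (L.r i)), Y = ⟨i, prev _ j⟩ →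
        w (D.e ⟨f X.1, Fin.cast (h _).symm X.2⟩) = D.e ⟨f Y.1, Fin.cast (h _).symm Y.2⟩ := by
      rintro _ rfl _ rfl
      rw [D.apply_e]
      refine congrArg D.e (Sigma.ext rfl (heq_of_eq (Fin.ext ?_)))
      simp [prev, h i]
    exact key _ (L.ptEquiv.symm_apply_apply _) _ (L.ptEquiv.symm_apply_apply _)

/-- An odd element commuting with `w`, when two cycles have the same odd length. -/
theorem exists_odd_commute {i i' : Fin D.K} (hne : i ≠ i') (he : D.r i = D.r i') (hodd : Odd (D.r i)) :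
    ∃ z : Perm α, Perm.sign z = -1 ∧ z * w = w * z := by
  let g : Bool × Fin (D.r i) → α := fun y =>
    if y.1 then D.e ⟨i', Fin.cast he y.2⟩ else D.e ⟨i, y.2⟩
  have hg : Function.Injective g := by
    rintro ⟨a, j⟩ ⟨a', j'⟩ h
    cases a <;> cases a' <;> simp only [g, Bool.false_eq_true, if_false, if_true] at h <;>
      have h' := D.e.injective h
    · simp only [Sigma.mk.injEq, heq_eq_eq, true_and] at h'; rw [h']
    · exact absurd (congrArg Sigma.fst h') hne
    · exact absurd (congrArg Sigma.fst h').symm hne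
    · simp only [Sigma.mk.injEq, heq_eq_eq, true_and, Fin.ext_iff, Fin.val_cast] at h'
      rw [Fin.ext h']
  let z₀ : Perm (Bool × Fin (D.r i)) := prodCongrLeft fun _ => Equiv.swap false true
  refine ⟨z₀.extendDomain (Equiv.ofInjective g hg), ?_, ?_⟩
  · rw [Perm.sign_extendDomain, Perm.sign_prodCongrLeft]
    simp [hodd.neg_one_pow]
  · have hstep : ∀ y, w (g y) = g (y.1, prev _ y.2) := by
      rintro ⟨a, j⟩
      cases a <;> simp only [g, Bool.false_eq_true, if_false, if_true, D.apply_e]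
      refine congrArg D.e (Sigma.ext rfl (heq_of_eq (Fin.ext ?_)))
      simp [prev, he]
    ext a
    rw [Perm.mul_apply, Perm.mul_apply]
    by_cases h : a ∈ Set.range g
    · obtain ⟨y, rfl⟩ := h
      have key : ∀ y, z₀.extendDomain (Equiv.ofInjective g hg) (g y) = g (z₀ y) := fun y =>
        Perm.extendDomain_apply_image z₀ (Equiv.ofInjective g hg) y
      rw [hstep, key, key, hstep]
      rfl
    · have h' : w a ∉ Set.range g := by
        rintro ⟨⟨b, j⟩, hj⟩
        apply h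
        refine ⟨(b, (prev _).symm j), w.injective ?_⟩
        rw [hstep, Equiv.apply_symm_apply, hj]
      rw [Perm.extendDomain_apply_not_subtype _ _ h, Perm.extendDomain_apply_not_subtype _ _ h']

end Dec

end Cfsg.Agent.AltPairs
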