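import Cfsg.Agent.Lib.AltPairs.Layout

/-!
Explicit good pairs: the successor of `ZMod q` against a conjugate of a product of intervals.
-/

set_option autoImplicit false

namespace Cfsg.Agent.AltPairs

open Equiv Lay

/-- The 3-cycle `(a b c)`. -/
def cyc3 {β : Type*} [DecidableEq β] (a b c : β) : Perm β := Equiv.swap a b * Equiv.swap b c

theorem Along.cyc3 {α β : Type*} [DecidableEq α] [DecidableEq β] {ι : β → α} (hι : Function.Injective ι)
    (a b c : β) : Along ι (cyc3 (ι a) (ι b) (ι c)) (cyc3 a b c) :=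
  (Along.swap hι a b).mul (Along.swap hι b c)

theorem cyc3_conj {β : Type*} [DecidableEq β] (f : Perm β) (a b c : β) :
    f * cyc3 a b c * f⁻¹ = cyc3 (f a) (f b) (f c) := by
  rw [AltPairs.cyc3, AltPairs.cyc3, Equiv.swap_apply_apply, Equiv.swap_apply_apply]; group

/-- The relations of the perfectness criterion. -/
def Rel {β : Type*} [DecidableEq β] (x y : Perm β) : Prop :=
  x ≠ 1 ∧ x = x⁻¹ * (y * x * y⁻¹ * x⁻¹ * y) * x * (y * x * y⁻¹ * x⁻¹ * y)⁻¹ ∧
    y = y⁻¹ * (x * y * x⁻¹ * y⁻¹ * x) * y * (x * y * x⁻¹ * y⁻¹ * x)⁻¹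

theorem Rel.not_solvable {β : Type*} [DecidableEq β] {x y : Perm β} (h : Rel x y)
    {H : Subgroup (Perm β)} (hx : x ∈ H) (hy : y ∈ H) : ¬ Group.IsSolvable H :=
  not_solvable_of_rel H hx hy h.1
    (by rw [commutatorElement_def, inv_inv]; exact h.2.1)
    (by rw [commutatorElement_def, inv_inv]; exact h.2.2)

theorem not_solvable_window {α β : Type*} [DecidableEq β] {ι : β → α} (hι : Function.Injective ι)
    {H : Subgroup (Perm α)} {e e' : Perm α} (he : e ∈ H) (he' : e' ∈ H) {z z' : Perm β}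
    (hz : Along ι e z) (hz' : Along ι e' z') {x y : Perm β}
    (hx : x ∈ Subgroup.closure ({z, z'} : Set (Perm β)))
    (hy : y ∈ Subgroup.closure ({z, z'} : Set (Perm β))) (h : Rel x y) : ¬ Group.IsSolvable H := by
  refine not_solvable_of_along hι (S := {z, z'}) ?_ (h.not_solvable hx hy)
  rintro _ (rfl | rfl)
  exacts [⟨e, he, hz⟩, ⟨e', he', hz'⟩]

variable {q : ℕ} [NeZero q]

theorem cast_inj {a b : ℕ} (ha : a < q) (hb : b < q) : (a : ZMod q) = (b : ZMod q) ↔ a = b :=
  ⟨fun h => by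
    have := congrArg ZMod.val h
    rwa [ZMod.val_cast_of_lt ha, ZMod.val_cast_of_lt hb] at this, fun h => h ▸ rfl⟩

omit [NeZero q] in
theorem cast_eq_of_add {a b : ℕ} (h : a = b + q) : (a : ZMod q) = (b : ZMod q) := by
  rw [h, Nat.cast_add, ZMod.natCast_self, add_zero]

/-- A window of consecutive points. -/
def win (q m o : ℕ) : Fin m → ZMod q := fun i => ((o + i.1 : ℕ) : ZMod q)

theorem win_injective {m : ℕ} (hm : m ≤ q) (o : ℕ) : Function.Injective (win q m o) := by
  intro i j h
  simp only [win, Nat.cast_add, add_right_inj] at h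
  exact Fin.ext ((cast_inj (i.2.trans_le hm) (j.2.trans_le hm)).1 h)

omit [NeZero q] in
theorem shift_apply {f : Perm (ZMod q)} {x y : ℕ} (s : ℕ) (h : f (x : ZMod q) = (y : ZMod q)) :
    (c q ^ s * f * (c q ^ s)⁻¹) ((x + s : ℕ) : ZMod q) = ((y + s : ℕ) : ZMod q) := by
  have e : ((x + s : ℕ) : ZMod q) = (c q ^ s) (x : ZMod q) := by rw [c_pow_apply]; push_cast; ring
  rw [e, Perm.mul_apply, Perm.mul_apply, Perm.coe_inv, Equiv.symm_apply_apply, h, c_pow_apply]
  push_cast; ring

theorem not_solvable_three {H : Subgroup (Perm (ZMod q))} (hc : c q ∈ H) (x₀ d : ℕ)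
    (hinj : Function.Injective fun i : Fin 5 => ((x₀ + i.1 * d : ℕ) : ZMod q))
    (hT : cyc3 ((x₀ : ℕ) : ZMod q) ((x₀ + d : ℕ) : ZMod q) ((x₀ + 2 * d : ℕ) : ZMod q) ∈ H) :
    ¬ Group.IsSolvable H := by
  set ι : Fin 5 → ZMod q := fun i => ((x₀ + i.1 * d : ℕ) : ZMod q) with hιdef
  have h0 := Along.cyc3 hinj (0 : Fin 5) 1 2
  have h1 := Along.cyc3 hinj (2 : Fin 5) 3 4
  have e1 : cyc3 (ι 0) (ι 1) (ι 2) ∈ H := by simpa [hιdef] using hT
  have e2 : cyc3 (ι 2) (ι 3) (ι 4) ∈ H := by
    have : c q ^ (2 * d) * cyc3 (ι 0) (ι 1) (ι 2) * (c q ^ (2 * d))⁻¹ = cyc3 (ι 2) (ι 3) (ι 4) := by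
      rw [cyc3_conj, c_pow_apply, c_pow_apply, c_pow_apply]
      simp only [hιdef]
      congr 1 <;> simp <;> ring
    rw [← this]
    exact H.mul_mem (H.mul_mem (H.pow_mem hc _) e1) (H.inv_mem (H.pow_mem hc _))
  exact not_solvable_window hinj e1 e2 h0 h1 (x := cyc3 0 1 2) (y := cyc3 2 3 4)
    (Subgroup.subset_closure (by simp)) (Subgroup.subset_closure (by simp))
    (by unfold Rel; decide +kernel)

/-- A long interval. -/
theorem model_long {p : ℕ} (hp : p.Prime) (hp3 : 3 ≤ p) (L : Lay q) (hq : Odd q)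
    (hodd : ∀ i < L.K, Odd (L.r i)) (h5 : 5 ≤ L.r 0) :
    Good p (c q) (Equiv.swap ((1 : ℕ) : ZMod q) ((3 : ℕ) : ZMod q) * L.back *
      (Equiv.swap ((1 : ℕ) : ZMod q) ((3 : ℕ) : ZMod q))⁻¹) := by
  have hK : 0 < L.K := by
    rcases Nat.eq_zero_or_pos L.K with h | h
    · exact absurd (L.sum.symm.trans (by rw [h]; simp)) (NeZero.ne q)
    · exact h
  have hrq : L.r 0 ≤ q := by
    have := L.s_mono (Nat.succ_le_of_lt hK)
    rw [L.s_succ, L.s_K] at this
    simpa [Lay.s] using this
  have hKodd : Odd L.K := by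
    have key : ∀ k ≤ L.K, (∑ i ∈ Finset.range k, L.r i) % 2 = k % 2 := by
      intro k hk
      induction k with
      | zero => simp
      | succ k ih =>
        rw [Finset.sum_range_succ, Nat.add_mod, ih (by omega), Nat.odd_iff.1 (hodd k (by omega))]
        omega
    have h := key L.K le_rfl
    rw [L.sum, Nat.odd_iff.1 hq] at h
    exact Nat.odd_iff.2 h.symm
  have fix : ∀ j, j + 1 < L.r 0 → L.skel ((j + 1 : ℕ) : ZMod q) = ((j + 1 : ℕ) : ZMod q) := by
    intro j hj
    have := L.skel_inner hK hj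
    simpa [Lay.s] using this
  have f1 := fix 0 (by omega); have f2 := fix 1 (by omega)
  have f3 := fix 2 (by omega); have f4 := fix 3 (by omega)
  have ne : ∀ a b : ℕ, a ≤ 4 → b ≤ 4 → a ≠ b → (a : ZMod q) ≠ (b : ZMod q) := fun a b ha hb h e =>
    h ((cast_inj (by omega) (by omega)).1 e)
  set h := Equiv.swap ((1 : ℕ) : ZMod q) ((3 : ℕ) : ZMod q) with hh
  set h' := Equiv.swap ((2 : ℕ) : ZMod q) ((4 : ℕ) : ZMod q) with hh'
  have cswap : ∀ a b : ℕ, c q * Equiv.swap (a : ZMod q) (b : ZMod q) * (c q)⁻¹ =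
      Equiv.swap ((a + 1 : ℕ) : ZMod q) ((b + 1 : ℕ) : ZMod q) := fun a b => by
    rw [← c_cast, ← c_cast, Equiv.swap_apply_apply]
  have hch : c q * h * (c q)⁻¹ = h' := cswap 1 3
  have hinv : h⁻¹ = h := Equiv.swap_inv _ _
  set P := c q * (h * L.back * h⁻¹) with hP
  have hPe : P = h' * L.skel * h := by
    rw [hP, ← hch, Lay.skel, hinv]; group
  have comm : ∀ a b : ZMod q, L.skel a = a → L.skel b = b → Commute L.skel (Equiv.swap a b) := by
    intro a b ha hb
    show L.skel * Equiv.swap a b = Equiv.swap a b * L.skel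
    rw [mul_swap_eq_swap_mul, ha, hb]
  have chh' : Commute h' h := by
    show h' * h = h * h'
    rw [hh, mul_swap_eq_swap_mul, hh', Equiv.swap_apply_of_ne_of_ne (ne 1 2 (by omega) (by omega) (by omega))
      (ne 1 4 (by omega) (by omega) (by omega)), Equiv.swap_apply_of_ne_of_ne
      (ne 3 2 (by omega) (by omega) (by omega)) (ne 3 4 (by omega) (by omega) (by omega))]
  set D := h * h' with hD
  have hPD : P = D * L.skel := by
    rw [hPe, mul_assoc, (comm _ _ f1 f3).eq, ← mul_assoc, chh'.eq]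
  have hD2 : D * D = 1 := by
    rw [hD, mul_assoc, ← mul_assoc h', chh'.eq, mul_assoc h h', hh', Equiv.swap_mul_self, mul_one, hh,
      Equiv.swap_mul_self]
  have hPK : P ^ L.K = D := by
    rw [hPD, (((comm _ _ f1 f3).mul_right (comm _ _ f2 f4)).symm : Commute D L.skel).mul_pow,
      L.skel_pow_K, mul_one]
    obtain ⟨t, ht⟩ := hKodd
    rw [ht, pow_succ, pow_mul, sq, hD2, one_pow, one_mul]
  refine ⟨?_, ?_⟩
  · haveI : Fact (Nat.Prime 2) := ⟨Nat.prime_two⟩
    have e1 : P ((1 : ℕ) : ZMod q) = ((3 : ℕ) : ZMod q) := by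
      rw [hPe, Perm.mul_apply, Perm.mul_apply, hh, Equiv.swap_apply_left, f3, hh',
        Equiv.swap_apply_of_ne_of_ne (ne 3 2 (by omega) (by omega) (by omega))
          (ne 3 4 (by omega) (by omega) (by omega))]
    have e2 : P ((3 : ℕ) : ZMod q) = ((1 : ℕ) : ZMod q) := by
      rw [hPe, Perm.mul_apply, Perm.mul_apply, hh, Equiv.swap_apply_right, f1, hh',
        Equiv.swap_apply_of_ne_of_ne (ne 1 2 (by omega) (by omega) (by omega))
          (ne 1 4 (by omega) (by omega) (by omega))]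
    exact not_ppow_of_prime_period hp (l := 2) (by omega) (x := ((1 : ℕ) : ZMod q))
      (by rw [e1]; exact ne 3 1 (by omega) (by omega) (by omega))
      (by rw [sq, Perm.mul_apply, e1, e2])
  · set H := Subgroup.closure ({c q, h * L.back * h⁻¹} : Set (Perm (ZMod q)))
    have hc : c q ∈ H := Subgroup.subset_closure (by simp)
    have hDH : D ∈ H := by
      rw [← hPK, hP]
      exact H.pow_mem (H.mul_mem hc (Subgroup.subset_closure (by simp))) _
    have hT : cyc3 ((1 : ℕ) : ZMod q) ((1 + 2 : ℕ) : ZMod q) ((1 + 2 * 2 : ℕ) : ZMod q) ∈ H := by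
      have e : D * (c q * D * (c q)⁻¹) =
          cyc3 ((1 : ℕ) : ZMod q) ((1 + 2 : ℕ) : ZMod q) ((1 + 2 * 2 : ℕ) : ZMod q) := by
        have : c q * D * (c q)⁻¹ = h' * Equiv.swap ((3 : ℕ) : ZMod q) ((5 : ℕ) : ZMod q) := by
          rw [show c q * D * (c q)⁻¹ = (c q * h * (c q)⁻¹) * (c q * h' * (c q)⁻¹) by rw [hD]; group,
            hch, hh', cswap]
        rw [this, hD, mul_assoc, ← mul_assoc h', hh', Equiv.swap_mul_self, one_mul]
        rfl
      rw [← e]
      exact H.mul_mem hDH (H.mul_mem (H.mul_mem hc hDH) (H.inv_mem hc))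
    refine not_solvable_three hc 1 2 ?_ hT
    intro i j hij
    simp only [Nat.cast_add, add_right_inj] at hij
    have h2 : Nat.Coprime q 2 := Nat.coprime_two_right.2 hq
    rw [ZMod.natCast_eq_natCast_iff] at hij
    have := Nat.ModEq.cancel_right_of_coprime h2 hij
    exact Fin.ext (Nat.ModEq.eq_of_lt_of_lt this (by omega) (by omega))

/-- A single interval, with an even conjugator. -/
theorem model_single {p : ℕ} (hp : p.Prime) (hp3 : 3 ≤ p) (h5 : 5 ≤ q) (h9 : p = 3 → 9 ≤ q)
    (L : Lay q) (hK : L.K = 1) :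
    ∃ h : Perm (ZMod q), Perm.sign h = 1 ∧ Good p (c q) (h * L.back * h⁻¹) := by
  have hback : L.back = (c q)⁻¹ := by
    have h := L.skel_pow_K
    rw [hK, pow_one, Lay.skel] at h
    exact eq_inv_of_mul_eq_one_right h
  have cwin : ∀ (m : ℕ) (i j : Fin m), j.1 = i.1 + 1 → c q (win q m 0 i) = win q m 0 j := fun m i j e => by
    simp only [win, zero_add, c_cast, e]
  by_cases hp3' : p = 3
  · -- a 5-cycle
    have hinj := win_injective (q := q) (m := 7) (by have := h9 hp3'; omega) 0
    set ι := win q 7 0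
    set h := cyc3 (ι 0) (ι 1) (ι 3) with hh
    have hch : c q * h * (c q)⁻¹ = cyc3 (ι 1) (ι 2) (ι 4) := by
      rw [hh, cyc3_conj, cwin 7 0 1 rfl, cwin 7 1 2 rfl, cwin 7 3 4 rfl]
    have hch2 : c q * cyc3 (ι 1) (ι 2) (ι 4) * (c q)⁻¹ = cyc3 (ι 2) (ι 3) (ι 5) := by
      rw [cyc3_conj, cwin 7 1 2 rfl, cwin 7 2 3 rfl, cwin 7 4 5 rfl]
    set P := c q * (h * L.back * h⁻¹) with hP
    have hPe : P = cyc3 (ι 1) (ι 2) (ι 4) * h⁻¹ := by rw [hP, hback, ← hch]; group
    set z : Perm (Fin 7) := cyc3 1 2 4 * (cyc3 0 1 3)⁻¹ with hz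
    set z' : Perm (Fin 7) := cyc3 2 3 5 * (cyc3 1 2 4)⁻¹ with hz'
    have hPz : Along ι P z := hPe ▸ (Along.cyc3 hinj 1 2 4).mul (Along.cyc3 hinj 0 1 3).inv
    have hPz' : Along ι (c q * P * (c q)⁻¹) z' := by
      have : c q * P * (c q)⁻¹ = cyc3 (ι 2) (ι 3) (ι 5) * (cyc3 (ι 1) (ι 2) (ι 4))⁻¹ := by
        rw [hPe, ← hch2, ← hch]; group
      exact this ▸ (Along.cyc3 hinj 2 3 5).mul (Along.cyc3 hinj 1 2 4).inv
    refine ⟨h, ?_, ?_, ?_⟩
    · rw [hh, cyc3, map_mul, Perm.sign_swap (hinj.ne (by decide)), Perm.sign_swap (hinj.ne (by decide))]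
      rfl
    · haveI : Fact (Nat.Prime 5) := ⟨by norm_num⟩
      refine not_ppow_of_prime_period hp (l := 5) (by omega) (x := ι 0) ?_ ?_
      · rw [hPz 0]; exact hinj.ne (by decide)
      · rw [(hPz.pow 5) 0, show z ^ 5 = 1 by rw [hz]; decide +kernel]; rfl
    · set H := Subgroup.closure ({c q, h * L.back * h⁻¹} : Set (Perm (ZMod q)))
      have hc : c q ∈ H := Subgroup.subset_closure (by simp)
      have hPH : P ∈ H := H.mul_mem hc (Subgroup.subset_closure (by simp))
      have hm1 : z ∈ Subgroup.closure ({z, z'} : Set (Perm (Fin 7))) := Subgroup.subset_closure (by simp)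
      have hm2 : z' ∈ Subgroup.closure ({z, z'} : Set (Perm (Fin 7))) := Subgroup.subset_closure (by simp)
      exact not_solvable_window hinj hPH (H.mul_mem (H.mul_mem hc hPH) (H.inv_mem hc)) hPz hPz'
        (x := z * z * z'⁻¹ * z * z') (y := z * z * z' * z⁻¹ * z'⁻¹)
        (mul_mem (mul_mem (mul_mem (mul_mem hm1 hm1) (inv_mem hm2)) hm1) hm2)
        (mul_mem (mul_mem (mul_mem (mul_mem hm1 hm1) hm2) (inv_mem hm1)) (inv_mem hm2))
        (by unfold Rel; decide +kernel)
  · -- a 3-cycle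
    have hinj := win_injective (q := q) (m := 5) h5 0
    set ι := win q 5 0
    set h := cyc3 (ι 0) (ι 1) (ι 2) with hh
    have hch : c q * h * (c q)⁻¹ = cyc3 (ι 1) (ι 2) (ι 3) := by
      rw [hh, cyc3_conj, cwin 5 0 1 rfl, cwin 5 1 2 rfl, cwin 5 2 3 rfl]
    have hch2 : c q * cyc3 (ι 1) (ι 2) (ι 3) * (c q)⁻¹ = cyc3 (ι 2) (ι 3) (ι 4) := by
      rw [cyc3_conj, cwin 5 1 2 rfl, cwin 5 2 3 rfl, cwin 5 3 4 rfl]
    set P := c q * (h * L.back * h⁻¹) with hP
    have hPe : P = cyc3 (ι 1) (ι 2) (ι 3) * h⁻¹ := by rw [hP, hback, ← hch]; group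
    set z : Perm (Fin 5) := cyc3 1 2 3 * (cyc3 0 1 2)⁻¹ with hz
    set z' : Perm (Fin 5) := cyc3 2 3 4 * (cyc3 1 2 3)⁻¹ with hz'
    have hPz : Along ι P z := hPe ▸ (Along.cyc3 hinj 1 2 3).mul (Along.cyc3 hinj 0 1 2).inv
    have hPz' : Along ι (c q * P * (c q)⁻¹) z' := by
      have : c q * P * (c q)⁻¹ = cyc3 (ι 2) (ι 3) (ι 4) * (cyc3 (ι 1) (ι 2) (ι 3))⁻¹ := by
        rw [hPe, ← hch2, ← hch]; group
      exact this ▸ (Along.cyc3 hinj 2 3 4).mul (Along.cyc3 hinj 1 2 3).inv
    refine ⟨h, ?_, ?_, ?_⟩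
    · rw [hh, cyc3, map_mul, Perm.sign_swap (hinj.ne (by decide)), Perm.sign_swap (hinj.ne (by decide))]
      rfl
    · haveI : Fact (Nat.Prime 3) := ⟨Nat.prime_three⟩
      refine not_ppow_of_prime_period hp (l := 3) (Ne.symm hp3') (x := ι 0) ?_ ?_
      · rw [hPz 0]; exact hinj.ne (by decide)
      · rw [(hPz.pow 3) 0, show z ^ 3 = 1 by rw [hz]; decide +kernel]; rfl
    · set H := Subgroup.closure ({c q, h * L.back * h⁻¹} : Set (Perm (ZMod q)))
      have hc : c q ∈ H := Subgroup.subset_closure (by simp)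
      have hPH : P ∈ H := H.mul_mem hc (Subgroup.subset_closure (by simp))
      exact not_solvable_window hinj hPH (H.mul_mem (H.mul_mem hc hPH) (H.inv_mem hc)) hPz hPz'
        (x := z) (y := z') (Subgroup.subset_closure (by simp)) (Subgroup.subset_closure (by simp))
        (by unfold Rel; decide +kernel)

theorem not_solvable_win5 {H : Subgroup (Perm (ZMod q))} (hc : c q ∈ H) {E : Perm (ZMod q)} (hE : E ∈ H)
    (h5 : 5 ≤ q) (h : ∀ i : Fin 5, E (win q 5 0 i) = win q 5 0 (cyc3 0 1 2 i))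
    (h1 : E ((q - 2 : ℕ) : ZMod q) = ((q - 2 : ℕ) : ZMod q))
    (h2 : E ((q - 1 : ℕ) : ZMod q) = ((q - 1 : ℕ) : ZMod q)) : ¬ Group.IsSolvable H := by
  refine not_solvable_window (win_injective h5 0) hE
    (H.mul_mem (H.mul_mem (H.pow_mem hc 2) hE) (H.inv_mem (H.pow_mem hc 2))) h
    (z' := cyc3 2 3 4) (fun i => ?_) (x := cyc3 0 1 2) (y := cyc3 2 3 4)
    (Subgroup.subset_closure (by simp)) (Subgroup.subset_closure (by simp))
    (by unfold Rel; decide +kernel)
  have key : ∀ x y : ℕ, E (x : ZMod q) = (y : ZMod q) → ∀ i j : Fin 5,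
      ((x + 2 : ℕ) : ZMod q) = win q 5 0 i → ((y + 2 : ℕ) : ZMod q) = win q 5 0 j →
      (c q ^ 2 * E * (c q ^ 2)⁻¹) (win q 5 0 i) = win q 5 0 j := fun x y e i j hx hy => by
    rw [← hx, ← hy]; exact shift_apply 2 e
  fin_cases i
  · exact key _ _ h1 _ _ (cast_eq_of_add (by simp; omega)) (cast_eq_of_add (by simp [cyc3, Equiv.swap_apply_def]; omega))
  · exact key _ _ h2 _ _ (cast_eq_of_add (by simp; omega)) (cast_eq_of_add (by simp [cyc3, Equiv.swap_apply_def]; omega))
  · exact key 0 1 (by simpa [win, cyc3, Equiv.swap_apply_def] using h 0) _ _ rfl rfl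
  · exact key 1 2 (by simpa [win, cyc3, Equiv.swap_apply_def] using h 1) _ _ rfl rfl
  · exact key 2 0 (by simpa [win, cyc3, Equiv.swap_apply_def] using h 2) _ _ rfl rfl

theorem not_solvable_win7 {H : Subgroup (Perm (ZMod q))} (hc : c q ∈ H) {E : Perm (ZMod q)} (hE : E ∈ H)
    (h9 : 9 ≤ q) (o : ℕ) (z : Perm (Fin 7)) (hz : z = cyc3 0 2 1 * cyc3 3 4 5 ∨ z = cyc3 0 1 2 * cyc3 3 5 4)
    (h : ∀ i : Fin 7, E (win q 7 o i) = win q 7 o (z i))
    (h1 : E ((o + (q - 1) : ℕ) : ZMod q) = ((o + (q - 1) : ℕ) : ZMod q)) : ¬ Group.IsSolvable H := by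
  set ρ : Perm (Fin 7) := finRotate 7 with hρ
  set z' := ρ * z * ρ⁻¹ with hz'
  have hρz : ∀ i : Fin 6, (z i.castSucc).1 ≤ 5 := by
    rcases hz with rfl | rfl <;> decide +kernel
  have hA : Along (win q 7 o) (c q * E * (c q)⁻¹) z' := by
    intro i
    refine Fin.cases ?_ (fun i => ?_) i
    · have e := shift_apply (f := E) 1 h1
      rw [pow_one] at e
      have hwin : ((o + (q - 1) + 1 : ℕ) : ZMod q) = win q 7 o 0 := cast_eq_of_add (by simp; omega)
      rw [hwin] at e
      rw [e]; congr 1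
      rcases hz with rfl | rfl <;> decide +kernel
    · have e := shift_apply (f := E) (x := o + i.1) (y := o + (z i.castSucc).1) 1 (h i.castSucc)
      rw [pow_one] at e
      show (c q * E * (c q)⁻¹) ((o + (i.1 + 1) : ℕ) : ZMod q) = _
      rw [← add_assoc, e]
      have hv : (z' i.succ).1 = (z i.castSucc).1 + 1 := by
        have h1 : ρ⁻¹ i.succ = i.castSucc := by
          rw [Perm.inv_eq_iff_eq, hρ, finRotate_succ_apply]; exact Fin.ext (by
            simp [Fin.val_add, Fin.val_castSucc])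
        rw [hz', Perm.mul_apply, Perm.mul_apply, h1, hρ, finRotate_succ_apply, Fin.val_add]
        have := hρz i
        simp; omega
      simp only [win, hv, add_assoc]
  set x := z' * z * z' * z
  set y := z * z' * z * z'
  have hm1 : z ∈ Subgroup.closure ({z, z'} : Set (Perm (Fin 7))) := Subgroup.subset_closure (by simp)
  have hm2 : z' ∈ Subgroup.closure ({z, z'} : Set (Perm (Fin 7))) := Subgroup.subset_closure (by simp)
  refine not_solvable_window (win_injective (by omega) o) hE (H.mul_mem (H.mul_mem hc hE) (H.inv_mem hc))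
    h hA (x := x) (y := y) (mul_mem (mul_mem (mul_mem hm2 hm1) hm2) hm1)
    (mul_mem (mul_mem (mul_mem hm1 hm2) hm1) hm2) ?_
  simp only [x, y, hz', hρ]
  rcases hz with rfl | rfl <;> (unfold Rel; decide +kernel)

/-- Value of `f⁻¹ * (shift by three of f)`. -/
theorem quot_apply {f : Perm (ZMod q)} {x y z : ℕ} (h : f (x : ZMod q) = (y : ZMod q))
    (h' : f (z : ZMod q) = ((y + 3 : ℕ) : ZMod q)) :
    (f⁻¹ * (c q ^ 3 * f * (c q ^ 3)⁻¹)) ((x + 3 : ℕ) : ZMod q) = (z : ZMod q) := by
  rw [Perm.mul_apply, shift_apply 3 h, Perm.inv_eq_iff_eq, h']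

/-- Threes first, then fixed points. -/
theorem model_mixed (L : Lay q) (a b : ℕ) (hK : L.K = a + b)
    (hr : ∀ i < L.K, L.r i = if i < a then 3 else 1) (ha : 1 ≤ a) (hb : 3 ≤ b) (h9 : 9 ≤ q)
    (hb3 : 3 ∣ b) (hq3 : ∃ m, q = 3 ^ m) :
    Good 3 (c q) L.back := by
  have hs : ∀ i, i ≤ a → L.s i = 3 * i := by
    intro i hi
    induction i with
    | zero => simp [Lay.s]
    | succ i ih => rw [L.s_succ, ih (by omega), hr i (by omega), if_pos (by omega)]; ring
  have hs' : ∀ t, t ≤ b → L.s (a + t) = 3 * a + t := by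
    intro t ht
    induction t with
    | zero => simpa using hs a le_rfl
    | succ t ih => rw [← add_assoc, L.s_succ, ih (by omega), hr (a + t) (by omega), if_neg (by omega)]; ring
  have hqab : q = 3 * a + b := by rw [← L.s_K, hK, hs' b le_rfl]
  have B0 : ∀ i < a, L.back ((3 * i : ℕ) : ZMod q) = ((3 * i + 2 : ℕ) : ZMod q) := fun i hi => by
    have := L.back_zero (i := i) (by omega)
    rwa [hr i (by omega), if_pos hi, hs i (by omega)] at this
  have B1 : ∀ i < a, L.back ((3 * i + 1 : ℕ) : ZMod q) = ((3 * i : ℕ) : ZMod q) := fun i hi => by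
    have := L.back_succ (i := i) (j := 0) (by omega) (by rw [hr i (by omega), if_pos hi]; omega)
    simpa [hs i (by omega)] using this
  have B2 : ∀ i < a, L.back ((3 * i + 2 : ℕ) : ZMod q) = ((3 * i + 1 : ℕ) : ZMod q) := fun i hi => by
    have := L.back_succ (i := i) (j := 1) (by omega) (by rw [hr i (by omega), if_pos hi]; omega)
    simpa [hs i (by omega), add_assoc] using this
  have BF : ∀ x, 3 * a ≤ x → x < q → L.back (x : ZMod q) = (x : ZMod q) := fun x hx hxq => by
    obtain ⟨t, rfl⟩ : ∃ t, x = 3 * a + t := ⟨x - 3 * a, by omega⟩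
    have := L.back_one (i := a + t) (by omega) (by rw [hr _ (by omega), if_neg (by omega)])
    rwa [hs' t (by omega)] at this
  refine ⟨?_, ?_⟩
  · refine not_ppow_of_period Nat.prime_three (x := ((L.s 0 : ℕ) : ZMod q)) (L := L.K) ?_ ?_
    · have hK0 : 0 < L.K := by omega
      refine le_antisymm (Function.IsPeriodicPt.minimalPeriod_le hK0 ?_) ?_
      · show L.skel^[L.K] _ = _
        rw [← Perm.coe_pow, L.skel_pow_K]; rfl
      · by_contra hlt
        have hm : 0 < Function.minimalPeriod L.skel ((L.s 0 : ℕ) : ZMod q) :=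
          Function.IsPeriodicPt.minimalPeriod_pos hK0 (by
            show L.skel^[L.K] _ = _
            rw [← Perm.coe_pow, L.skel_pow_K]; rfl)
        set m := Function.minimalPeriod L.skel ((L.s 0 : ℕ) : ZMod q) with hmdef
        have hmK : m < L.K := not_le.1 hlt
        have e1 := L.skel_pow_start hK0 m 0
        rw [Nat.zero_mod, zero_add, Nat.mod_eq_of_lt hmK, Perm.coe_pow, hmdef,
          Function.iterate_minimalPeriod, ← hmdef] at e1
        have hsm : L.s 0 < L.s m := by
          refine lt_of_lt_of_le ?_ (L.s_mono (Nat.one_le_iff_ne_zero.2 hm.ne'))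
          rw [L.s_succ]; have := L.pos 0 hK0; omega
        have hsq : L.s m < q := by
          have := L.s_add_lt hmK (L.pos m hmK); omega
        exact hsm.ne ((cast_inj (hsm.trans hsq) hsq).1 e1)
    · intro j hj
      obtain ⟨m, hm⟩ := hq3
      have hjm : j < m := (Nat.pow_lt_pow_iff_right (by norm_num)).1 (show 3 ^ j < 3 ^ m by omega)
      have := Nat.pow_le_pow_right (show 0 < 3 by norm_num) hjm
      rw [Nat.succ_eq_add_one, pow_succ] at this
      omega
  · set H := Subgroup.closure ({c q, L.back} : Set (Perm (ZMod q)))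
    have hc : c q ∈ H := Subgroup.subset_closure (by simp)
    have hπ : L.back ∈ H := Subgroup.subset_closure (by simp)
    rcases eq_or_ne a 1 with rfl | ha1
    · refine not_solvable_win5 hc (H.inv_mem hπ) (by omega) ?_ ?_ ?_
      · intro i
        rw [Perm.inv_eq_iff_eq]
        fin_cases i
        · simpa [win, cyc3, Equiv.swap_apply_def] using (B1 0 one_pos).symm
        · simpa [win, cyc3, Equiv.swap_apply_def] using (B2 0 one_pos).symm
        · simpa [win, cyc3, Equiv.swap_apply_def] using (B0 0 one_pos).symm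
        · simpa [win, cyc3, Equiv.swap_apply_def] using (BF 3 (by omega) (by omega)).symm
        · simpa [win, cyc3, Equiv.swap_apply_def] using (BF 4 (by omega) (by omega)).symm
      · rw [Perm.inv_eq_iff_eq, BF _ (by omega) (by omega)]
      · rw [Perm.inv_eq_iff_eq, BF _ (by omega) (by omega)]
    · set E := L.back⁻¹ * (c q ^ 3 * L.back * (c q ^ 3)⁻¹) with hE
      have hEH : E ∈ H := H.mul_mem (H.inv_mem hπ)
        (H.mul_mem (H.mul_mem (H.pow_mem hc 3) hπ) (H.inv_mem (H.pow_mem hc 3)))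
      have ev : ∀ x y z w w' : ℕ, L.back (x : ZMod q) = (y : ZMod q) → L.back (z : ZMod q) =
          ((y + 3 : ℕ) : ZMod q) → ((x + 3 : ℕ) : ZMod q) = (w : ZMod q) → (z : ZMod q) = (w' : ZMod q) →
          E (w : ZMod q) = (w' : ZMod q) := fun x y z w w' e e' hw hw' => by
        rw [← hw, ← hw']; exact quot_apply e e'
      rcases eq_or_ne b 3 with rfl | hb'
      · -- adjacent
        obtain ⟨d, rfl⟩ : ∃ d, a = d + 2 := ⟨a - 2, by omega⟩
        refine not_solvable_win7 hc hEH h9 (3 * (d + 2)) _ (Or.inl rfl) ?_ ?_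
        · intro i
          fin_cases i
          · exact ev _ _ (3 * (d + 2) + 2) _ _ (B0 (d + 1) (by omega))
              (by rw [BF _ (by omega) (by omega)]; exact congrArg _ (by omega)) (congrArg _ (by simp; omega))
              (congrArg _ (by simp [cyc3, Equiv.swap_apply_def]))
          · exact ev _ _ (3 * (d + 2)) _ _ (B1 (d + 1) (by omega))
              (by rw [BF _ (by omega) (by omega)]; exact congrArg _ (by omega)) (congrArg _ (by simp; omega))
              (congrArg _ (by simp [cyc3, Equiv.swap_apply_def]))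
          · exact ev _ _ (3 * (d + 2) + 1) _ _ (B2 (d + 1) (by omega))
              (by rw [BF _ (by omega) (by omega)]; exact congrArg _ (by omega)) (congrArg _ (by simp; omega))
              (congrArg _ (by simp [cyc3, Equiv.swap_apply_def]))
          · exact ev _ _ 1 _ _ (BF (3 * (d + 2)) (by omega) (by omega))
              (by rw [show 1 = 3 * 0 + 1 by rfl, B1 0 (by omega)]; exact (cast_eq_of_add (by omega)).symm)
              (congrArg _ (by simp))
              (by rw [eq_comm]; exact cast_eq_of_add (by simp [cyc3, Equiv.swap_apply_def]; omega))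
          · exact ev _ _ 2 _ _ (BF (3 * (d + 2) + 1) (by omega) (by omega))
              (by rw [show 2 = 3 * 0 + 2 by rfl, B2 0 (by omega)]; exact (cast_eq_of_add (by omega)).symm)
              (congrArg _ (by simp))
              (by rw [eq_comm]; exact cast_eq_of_add (by simp [cyc3, Equiv.swap_apply_def]; omega))
          · exact ev _ _ 0 _ _ (BF (3 * (d + 2) + 2) (by omega) (by omega))
              (by rw [show 0 = 3 * 0 by rfl, B0 0 (by omega)]; exact (cast_eq_of_add (by omega)).symm)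
              (congrArg _ (by simp))
              (by rw [eq_comm]; exact cast_eq_of_add (by simp [cyc3, Equiv.swap_apply_def]; omega))
          · exact ev 0 2 3 _ _ (B0 0 (by omega)) (B0 1 (by omega))
              (by rw [eq_comm]; exact cast_eq_of_add (by simp; omega))
              (by rw [eq_comm]; exact cast_eq_of_add (by simp [cyc3, Equiv.swap_apply_def]; omega))
        · exact ev _ _ (3 * (d + 1) + 2) _ _ (B2 d (by omega))
            (by rw [B2 (d + 1) (by omega)]; exact congrArg _ (by omega))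
            (by rw [eq_comm]; exact cast_eq_of_add (by omega))
            (by rw [eq_comm]; exact cast_eq_of_add (by omega))
      · -- far apart
        refine not_solvable_win5 hc hEH (by omega) ?_ ?_ ?_
        · intro i
          fin_cases i
          · exact ev (q - 3) (q - 3) 1 _ _ (BF _ (by omega) (by omega))
              (by rw [show 1 = 3 * 0 + 1 by rfl, B1 0 (by omega)]; exact (cast_eq_of_add (by omega)).symm)
              (cast_eq_of_add (by simp; omega)) (congrArg _ (by simp [cyc3, Equiv.swap_apply_def]))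
          · exact ev (q - 2) (q - 2) 2 _ _ (BF _ (by omega) (by omega))
              (by rw [show 2 = 3 * 0 + 2 by rfl, B2 0 (by omega)]; exact (cast_eq_of_add (by omega)).symm)
              (cast_eq_of_add (by simp; omega)) (congrArg _ (by simp [cyc3, Equiv.swap_apply_def]))
          · exact ev (q - 1) (q - 1) 0 _ _ (BF _ (by omega) (by omega))
              (by rw [show 0 = 3 * 0 by rfl, B0 0 (by omega)]; exact (cast_eq_of_add (by omega)).symm)
              (cast_eq_of_add (by simp; omega)) (congrArg _ (by simp [cyc3, Equiv.swap_apply_def]))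
          · exact ev 0 2 3 _ _ (B0 0 (by omega)) (B0 1 (by omega)) (congrArg _ (by simp))
              (congrArg _ (by simp [cyc3, Equiv.swap_apply_def]))
          · exact ev 1 0 4 _ _ (B1 0 (by omega)) (B1 1 (by omega)) (congrArg _ (by simp))
              (congrArg _ (by simp [cyc3, Equiv.swap_apply_def]))
        · exact ev (q - 5) (q - 5) (q - 2) _ _ (BF _ (by omega) (by omega))
            (by rw [BF _ (by omega) (by omega)]; exact congrArg _ (by omega)) (congrArg _ (by omega)) rfl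
        · exact ev (q - 4) (q - 4) (q - 1) _ _ (BF _ (by omega) (by omega))
            (by rw [BF _ (by omega) (by omega)]; exact congrArg _ (by omega)) (congrArg _ (by omega)) rfl

/-- All intervals of length three. -/
theorem model_threes (L : Lay q) (hr : ∀ i < L.K, L.r i = 3) (h3 : 3 ≤ L.K) (hK3 : 3 ∣ L.K) :
    Good 3 (c q) (Equiv.swap ((1 : ℕ) : ZMod q) ((2 : ℕ) : ZMod q) * L.back *
      (Equiv.swap ((1 : ℕ) : ZMod q) ((2 : ℕ) : ZMod q))⁻¹) := by
  have hs : ∀ i, i ≤ L.K → L.s i = 3 * i := by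
    intro i hi
    induction i with
    | zero => simp [Lay.s]
    | succ i ih => rw [L.s_succ, ih (by omega), hr i (by omega)]; ring
  have hq : q = 3 * L.K := by
    calc q = L.s L.K := L.s_K.symm
      _ = 3 * L.K := hs _ le_rfl
  have B0 : ∀ i < L.K, L.back ((3 * i : ℕ) : ZMod q) = ((3 * i + 2 : ℕ) : ZMod q) := fun i hi => by
    have := L.back_zero (i := i) hi
    rwa [hr i hi, hs i hi.le] at this
  have B1 : ∀ i < L.K, L.back ((3 * i + 1 : ℕ) : ZMod q) = ((3 * i : ℕ) : ZMod q) := fun i hi => by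
    have := L.back_succ (i := i) (j := 0) hi (by rw [hr i hi]; omega)
    simpa [hs i hi.le] using this
  have B2 : ∀ i < L.K, L.back ((3 * i + 2 : ℕ) : ZMod q) = ((3 * i + 1 : ℕ) : ZMod q) := fun i hi => by
    have := L.back_succ (i := i) (j := 1) hi (by rw [hr i hi]; omega)
    simpa [hs i hi.le, add_assoc] using this
  set τ := Equiv.swap ((1 : ℕ) : ZMod q) ((2 : ℕ) : ZMod q) with hτ
  set w := τ * L.back * τ⁻¹ with hw
  have τfix : ∀ x, x < q → x ≠ 1 → x ≠ 2 → τ (x : ZMod q) = (x : ZMod q) := fun x hx x1 x2 =>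
    Equiv.swap_apply_of_ne_of_ne (fun e => x1 ((cast_inj hx (by omega)).1 e))
      (fun e => x2 ((cast_inj hx (by omega)).1 e))
  have wapp : ∀ x, w x = τ (L.back (τ x)) := fun x => by
    rw [hw, hτ, Equiv.swap_inv, Perm.mul_apply, Perm.mul_apply]
  have W0 : w ((0 : ℕ) : ZMod q) = ((1 : ℕ) : ZMod q) := by
    rw [wapp, τfix 0 (by omega) (by omega) (by omega)]
    have := B0 0 (by omega)
    rw [mul_zero, zero_add] at this
    rw [this, hτ, Equiv.swap_apply_right]
  have W1 : w ((1 : ℕ) : ZMod q) = ((2 : ℕ) : ZMod q) := by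
    rw [wapp, hτ, Equiv.swap_apply_left]
    have := B2 0 (by omega)
    rw [mul_zero, zero_add, zero_add] at this
    rw [this, Equiv.swap_apply_left]
  have W2 : w ((2 : ℕ) : ZMod q) = ((0 : ℕ) : ZMod q) := by
    rw [wapp, hτ, Equiv.swap_apply_right]
    have := B1 0 (by omega)
    rw [mul_zero, zero_add] at this
    rw [this]
    exact τfix 0 (by omega) (by omega) (by omega)
  have A0 : ∀ i, 1 ≤ i → i < L.K → w ((3 * i : ℕ) : ZMod q) = ((3 * i + 2 : ℕ) : ZMod q) := fun i h1 hi => by
    rw [wapp, τfix _ (by omega) (by omega) (by omega), B0 i hi, τfix _ (by omega) (by omega) (by omega)]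
  have A1 : ∀ i, 1 ≤ i → i < L.K → w ((3 * i + 1 : ℕ) : ZMod q) = ((3 * i : ℕ) : ZMod q) := fun i h1 hi => by
    rw [wapp, τfix _ (by omega) (by omega) (by omega), B1 i hi, τfix _ (by omega) (by omega) (by omega)]
  have A2 : ∀ i, 1 ≤ i → i < L.K → w ((3 * i + 2 : ℕ) : ZMod q) = ((3 * i + 1 : ℕ) : ZMod q) := fun i h1 hi => by
    rw [wapp, τfix _ (by omega) (by omega) (by omega), B2 i hi, τfix _ (by omega) (by omega) (by omega)]
  refine ⟨?_, ?_⟩
  · set P := c q * w with hP
    have Papp : ∀ x y : ℕ, w (x : ZMod q) = (y : ZMod q) → P (x : ZMod q) = ((y + 1 : ℕ) : ZMod q) :=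
      fun x y e => by rw [hP, Perm.mul_apply, e, c_cast]
    have orbit : ∀ j, j + 1 ≤ L.K → (P ^ (j + 3)) ((0 : ℕ) : ZMod q) = ((3 * (j + 1) : ℕ) : ZMod q) := by
      intro j hj
      induction j with
      | zero =>
        simp only [pow_succ', pow_zero, mul_one, Perm.mul_apply, Papp _ _ W0, Papp _ _ W2, Papp _ _ W1]
      | succ j ih =>
        rw [pow_succ', Perm.mul_apply, ih (by omega), Papp _ _ (A0 (j + 1) (by omega) (by omega))]
        exact congrArg _ (by omega)
    refine not_ppow_of_period Nat.prime_three (x := ((0 : ℕ) : ZMod q)) (L := L.K + 2) ?_ ?_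
    · have hper : Function.IsPeriodicPt P (L.K + 2) ((0 : ℕ) : ZMod q) := by
        show P^[L.K + 2] _ = _
        have := orbit (L.K - 1) (by omega)
        rw [show L.K - 1 + 3 = L.K + 2 by omega] at this
        rw [← Perm.coe_pow, this]
        exact cast_eq_of_add (by omega)
      refine le_antisymm (hper.minimalPeriod_le (by omega)) ?_
      by_contra hlt
      have hm := hper.minimalPeriod_pos (by omega)
      set m := Function.minimalPeriod P ((0 : ℕ) : ZMod q) with hmdef
      have e : (P ^ m) ((0 : ℕ) : ZMod q) = ((0 : ℕ) : ZMod q) := by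
        rw [Perm.coe_pow, hmdef]; exact Function.iterate_minimalPeriod
      have : m = 1 ∨ m = 2 ∨ ∃ j, m = j + 3 ∧ j + 1 < L.K := by
        by_cases h : m < 3
        · omega
        · exact Or.inr (Or.inr ⟨m - 3, by omega, by omega⟩)
      rcases this with h | h | ⟨j, hj, hjK⟩
      · rw [h, pow_one, Papp _ _ W0] at e
        exact absurd ((cast_inj (by omega) (by omega)).1 e) (by omega)
      · rw [h, sq, Perm.mul_apply, Papp _ _ W0, Papp _ _ W2] at e
        exact absurd ((cast_inj (by omega) (by omega)).1 e) (by omega)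
      · rw [hj, orbit j hjK.le] at e
        exact absurd ((cast_inj (by omega) (by omega)).1 e) (by omega)
    · intro k hk
      rcases k with _ | k
      · simp at hk
      · obtain ⟨l, hl⟩ := hK3
        rw [hl, pow_succ] at hk
        omega
  · set H := Subgroup.closure ({c q, w} : Set (Perm (ZMod q)))
    have hc : c q ∈ H := Subgroup.subset_closure (by simp)
    have hwH : w ∈ H := Subgroup.subset_closure (by simp)
    set E := w⁻¹ * (c q ^ 3 * w * (c q ^ 3)⁻¹) with hE
    have hEH : E ∈ H := H.mul_mem (H.inv_mem hwH)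
      (H.mul_mem (H.mul_mem (H.pow_mem hc 3) hwH) (H.inv_mem (H.pow_mem hc 3)))
    have ev : ∀ x y z v v' : ℕ, w (x : ZMod q) = (y : ZMod q) → w (z : ZMod q) =
        ((y + 3 : ℕ) : ZMod q) → ((x + 3 : ℕ) : ZMod q) = (v : ZMod q) → (z : ZMod q) = (v' : ZMod q) →
        E (v : ZMod q) = (v' : ZMod q) := fun x y z v v' e e' hv hv' => by
      rw [← hv, ← hv']; exact quot_apply e e'
    obtain ⟨d, hd⟩ : ∃ d, L.K = d + 2 := ⟨L.K - 2, by omega⟩
    refine not_solvable_win7 hc hEH (by omega) 0 _ (Or.inr rfl) ?_ ?_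
    · intro i
      fin_cases i
      · exact ev _ _ 1 _ _ (A0 (d + 1) (by omega) (by omega))
          (by rw [W1]; exact (cast_eq_of_add (by omega)).symm)
          (cast_eq_of_add (by simp; omega)) (congrArg _ (by simp [cyc3, Equiv.swap_apply_def]))
      · exact ev _ _ 2 _ _ (A1 (d + 1) (by omega) (by omega))
          (by rw [W2]; exact (cast_eq_of_add (by omega)).symm)
          (cast_eq_of_add (by simp; omega)) (congrArg _ (by simp [cyc3, Equiv.swap_apply_def]))
      · exact ev _ _ 0 _ _ (A2 (d + 1) (by omega) (by omega))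
          (by rw [W0]; exact (cast_eq_of_add (by omega)).symm)
          (cast_eq_of_add (by simp; omega)) (congrArg _ (by simp [cyc3, Equiv.swap_apply_def]))
      · exact ev _ _ 5 _ _ W0 (A2 1 le_rfl (by omega)) (congrArg _ (by simp))
          (congrArg _ (by simp [cyc3, Equiv.swap_apply_def]))
      · exact ev _ _ 3 _ _ W1 (A0 1 le_rfl (by omega)) (congrArg _ (by simp))
          (congrArg _ (by simp [cyc3, Equiv.swap_apply_def]))
      · exact ev _ _ 4 _ _ W2 (A1 1 le_rfl (by omega)) (congrArg _ (by simp))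
          (congrArg _ (by simp [cyc3, Equiv.swap_apply_def]))
      · exact ev _ _ 6 _ _ (A0 1 le_rfl (by omega)) (A0 2 (by omega) (by omega)) (congrArg _ (by simp))
          (congrArg _ (by simp [cyc3, Equiv.swap_apply_def]))
    · exact ev _ _ (3 * (d + 1) + 2) _ _ (A2 d (by omega) (by omega))
        (by rw [A2 (d + 1) (by omega) (by omega)]; exact congrArg _ (by omega))
        (congrArg _ (by omega)) (congrArg _ (by omega))

end Cfsg.Agent.AltPairs
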