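import Mathlib.GroupTheory.Perm.Cycle.Basic
import Mathlib.GroupTheory.SpecificGroups.Alternating
import Mathlib.GroupTheory.Solvable
import Mathlib.GroupTheory.OrderOfElement
import Mathlib.Dynamics.PeriodicPts.Defs
import Mathlib.Tactic

/-!
Pairs of permutations generating non-solvable groups with product of non-prime-power order:
transfer along invariant sets and a perfectness criterion.
-/

set_option autoImplicit false

namespace Cfsg.Agent.AltPairs

open Equiv
open scoped commutatorElement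

/-- The pair is of the wanted kind for the prime `p`. -/
def Good {G : Type*} [Group G] (p : ℕ) (u w : G) : Prop :=
  (¬ ∃ k, orderOf (u * w) = p ^ k) ∧ ¬ Group.IsSolvable ↥(Subgroup.closure ({u, w} : Set G))

theorem Good.conj {G : Type*} [Group G] {p : ℕ} {u w : G} (h : Good p u w) (g : G) :
    Good p (g * u * g⁻¹) (g * w * g⁻¹) := by
  refine ⟨?_, fun hs => h.2 ?_⟩
  · rw [show g * u * g⁻¹ * (g * w * g⁻¹) = MulAut.conj g (u * w) by simp [mul_assoc], MulEquiv.orderOf_eq]
    exact h.1
  · have e : Subgroup.closure ({g * u * g⁻¹, g * w * g⁻¹} : Set G) =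
        (Subgroup.closure ({u, w} : Set G)).map (MulAut.conj g).toMonoidHom := by
      rw [MonoidHom.map_closure, Set.image_pair]; rfl
    rw [e] at hs
    haveI := hs
    exact Group.isSolvable_of_isSolvable_injective
      (f := ((Subgroup.closure ({u, w} : Set G)).equivMapOfInjective (MulAut.conj g).toMonoidHom (MulAut.conj g).injective).toMonoidHom)
      (MulEquiv.injective _)

theorem Good.symm {G : Type*} [Group G] {p : ℕ} {u w : G} (h : Good p u w) : Good p w u := by
  refine ⟨?_, by rw [Set.pair_comm]; exact h.2⟩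
  rw [show w * u = MulAut.conj w (u * w) by simp [mul_assoc], MulEquiv.orderOf_eq]
  exact h.1

/-- A perfectness criterion modelled on `A₅`. -/
theorem not_solvable_of_rel {G : Type*} [Group G] (H : Subgroup G) {x y : G} (hx : x ∈ H) (hy : y ∈ H)
    (h1 : x ≠ 1)
    (ex : x = ⁅x⁻¹, y * x * y⁻¹ * x⁻¹ * y⁆) (ey : y = ⁅y⁻¹, x * y * x⁻¹ * y⁻¹ * x⁆) :
    ¬ Group.IsSolvable H := by
  intro hs
  have key : ∀ n, x ∈ (derivedSeries H n).map H.subtype ∧ y ∈ (derivedSeries H n).map H.subtype := by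
    intro n
    induction n with
    | zero =>
      rw [derivedSeries_zero]
      exact ⟨⟨⟨x, hx⟩, Subgroup.mem_top _, rfl⟩, ⟨⟨y, hy⟩, Subgroup.mem_top _, rfl⟩⟩
    | succ n ih =>
      obtain ⟨hxn, hyn⟩ := ih
      set D := (derivedSeries H n).map H.subtype
      rw [derivedSeries_succ, Subgroup.map_commutator]
      refine ⟨?_, ?_⟩
      · rw [ex]
        exact Subgroup.commutator_mem_commutator (D.inv_mem hxn)
          (D.mul_mem (D.mul_mem (D.mul_mem (D.mul_mem hyn hxn) (D.inv_mem hyn)) (D.inv_mem hxn)) hyn)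
      · rw [ey]
        exact Subgroup.commutator_mem_commutator (D.inv_mem hyn)
          (D.mul_mem (D.mul_mem (D.mul_mem (D.mul_mem hxn hyn) (D.inv_mem hxn)) (D.inv_mem hyn)) hxn)
  obtain ⟨n, hn⟩ := hs.solvable
  have := (key n).1
  rw [hn, Subgroup.map_bot, Subgroup.mem_bot] at this
  exact h1 this

variable {α β : Type*}

/-- `e` acts as `z` along `ι`. -/
def Along (ι : β → α) (e : Perm α) (z : Perm β) : Prop := ∀ b, e (ι b) = ι (z b)

theorem Along.one (ι : β → α) : Along ι 1 1 := fun _ => rfl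

theorem Along.mul {ι : β → α} {e e' : Perm α} {z z' : Perm β} (h : Along ι e z) (h' : Along ι e' z') :
    Along ι (e * e') (z * z') := fun b => by
  rw [Perm.mul_apply, h' b, h (z' b)]; rfl

theorem Along.inv {ι : β → α} {e : Perm α} {z : Perm β} (h : Along ι e z) : Along ι e⁻¹ z⁻¹ := fun b => by
  rw [Perm.inv_eq_iff_eq, h]; simp

theorem Along.pow {ι : β → α} {e : Perm α} {z : Perm β} (h : Along ι e z) :
    ∀ n : ℕ, Along ι (e ^ n) (z ^ n)
  | 0 => by simpa using Along.one ι
  | n + 1 => by rw [pow_succ, pow_succ]; exact (Along.pow h n).mul h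

theorem Along.swap [DecidableEq α] [DecidableEq β] {ι : β → α} (hι : Function.Injective ι) (a b : β) :
    Along ι (Equiv.swap (ι a) (ι b)) (Equiv.swap a b) := fun x => (hι.map_swap a b x).symm

theorem not_solvable_of_along {ι : β → α} (hι : Function.Injective ι) {H : Subgroup (Perm α)}
    {S : Set (Perm β)} (hS : ∀ z ∈ S, ∃ e ∈ H, Along ι e z)
    (hK : ¬ Group.IsSolvable ↥(Subgroup.closure S)) : ¬ Group.IsSolvable H := by
  classical
  intro hs
  let M : Subgroup H :=
    { carrier := {e | ∃ z, Along ι e.1 z}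
      one_mem' := ⟨1, Along.one ι⟩
      mul_mem' := fun ⟨z, hz⟩ ⟨z', hz'⟩ => ⟨z * z', hz.mul hz'⟩
      inv_mem' := fun ⟨z, hz⟩ => ⟨z⁻¹, hz.inv⟩ }
  have huniq : ∀ {e : Perm α} {z z' : Perm β}, Along ι e z → Along ι e z' → z = z' :=
    fun h h' => Equiv.ext fun b => hι ((h b).symm.trans (h' b))
  let φ : M →* Perm β :=
    { toFun := fun e => e.2.choose
      map_one' := huniq (1 : M).2.choose_spec (Along.one ι)
      map_mul' := fun e e' => huniq (e * e').2.choose_spec (e.2.choose_spec.mul e'.2.choose_spec) }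
  have hle : Subgroup.closure S ≤ φ.range := (Subgroup.closure_le _).2 fun z hz => by
    obtain ⟨e, he, h⟩ := hS z hz
    have hm : (⟨e, he⟩ : H) ∈ M := ⟨z, h⟩
    exact ⟨⟨_, hm⟩, huniq (⟨_, hm⟩ : M).2.choose_spec h⟩
  haveI := hs
  haveI : Group.IsSolvable φ.range := Group.isSolvable_of_surjective φ.rangeRestrict_surjective
  exact hK (Group.isSolvable_of_isSolvable_injective (Subgroup.inclusion_injective hle))

theorem Good.along {p : ℕ} (hp : p.Prime) {ι : β → α} (hι : Function.Injective ι) {u w : Perm α}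
    {u₀ w₀ : Perm β} (hu : Along ι u u₀) (hw : Along ι w w₀) (h : Good p u₀ w₀) : Good p u w := by
  refine ⟨?_, ?_⟩
  · rintro ⟨k, hk⟩
    have hd : (u₀ * w₀) ^ (p ^ k) = 1 := by
      have hA := (hu.mul hw).pow (p ^ k)
      rw [← hk, pow_orderOf_eq_one] at hA
      rw [← hk]
      exact Equiv.ext fun b => hι (hA b).symm
    obtain ⟨j, -, hj⟩ := (Nat.dvd_prime_pow hp).1 (orderOf_dvd_of_pow_eq_one hd)
    exact h.1 ⟨j, hj⟩
  · refine not_solvable_of_along hι (S := {u₀, w₀}) ?_ h.2
    rintro z (rfl | rfl)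
    exacts [⟨u, Subgroup.subset_closure (by simp), hu⟩, ⟨w, Subgroup.subset_closure (by simp), hw⟩]

/-- A point of period `L` obstructs a `p`-power order unless `L` is a power of `p`. -/
theorem not_ppow_of_period {p : ℕ} (hp : p.Prime) {P : Perm α} {x : α} {L : ℕ}
    (hL : Function.minimalPeriod P x = L) (hLp : ∀ k, L ≠ p ^ k) : ¬ ∃ k, orderOf P = p ^ k := by
  rintro ⟨k, hk⟩
  have : L ∣ p ^ k := by
    rw [← hL, ← hk]
    refine Function.IsPeriodicPt.minimalPeriod_dvd ?_
    show P^[orderOf P] x = x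
    rw [← Perm.coe_pow, pow_orderOf_eq_one]; rfl
  obtain ⟨j, -, hj⟩ := (Nat.dvd_prime_pow hp).1 this
  exact hLp j hj

theorem not_ppow_of_prime_period {p l : ℕ} (hp : p.Prime) [hl : Fact l.Prime] (hne : l ≠ p) {P : Perm α}
    {x : α} (h1 : P x ≠ x) (hl' : (P ^ l) x = x) : ¬ ∃ k, orderOf P = p ^ k := by
  refine not_ppow_of_period hp (x := x) (L := l) (Function.minimalPeriod_eq_prime ?_ h1) fun k hk => ?_
  · show P^[l] x = x
    rw [← Perm.coe_pow]; exact hl'
  · rcases k with _ | k
    · exact hl.out.ne_one (by simpa using hk)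
    · exact hne ((Nat.prime_dvd_prime_iff_eq hp hl.out).1 (hk ▸ dvd_pow_self p k.succ_ne_zero)).symm

end Cfsg.Agent.AltPairs
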